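import Mathlib
import Cfsg.Agent.H395.Jordan
import Cfsg.Agent.FastGrp
import Cfsg.Agent.Prune
set_option linter.all false
prune_inst 0x7f00000000000000000000000000000000000000000000000000000000000000000000000000000000000000000000000000000000000000000000000000000000000000000000000000000000000000003fffffffffffffffffffffffffffbeffbdffffffff
open scoped Cfsg.Agent.FastGrp

/-!
# Coprime lemmas for finite groups (helper715)

* `conj_hom` : two homomorphisms `B → G` which agree modulo an abelian normal subgroup of coprime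
  order are conjugate.
* `frattini` : Frattini argument for complements of an abelian normal subgroup.
* `fuse` : if `M = H C`, `K` is normal and `|K : A|` is prime to `|H|` for a normal `A ≤ H ⊓ K`, then
  `K = A (C ⊓ K)`.
* `centralize` : a group of coprime order which fixes all classes of `Z` centralizes `Z`.
-/

set_option autoImplicit false

namespace Cfsg.Agent.H715

open Subgroup

/-- Homomorphisms congruent modulo an abelian normal subgroup of coprime order are conjugate. -/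
theorem conj_hom {G B : Type*} [Group G] [Group B] [Finite B] (Q : Subgroup G) [hQn : Q.Normal]
    [Finite Q] (hQ : ∀ x ∈ Q, ∀ y ∈ Q, x * y = y * x) (hcop : (Nat.card B).Coprime (Nat.card Q))
    (f₁ f₂ : B →* G) (h : ∀ b, f₂ b * (f₁ b)⁻¹ ∈ Q) : ∃ q ∈ Q, ∀ b, f₂ b = q * f₁ b * q⁻¹ := by
  classical
  have := Fintype.ofFinite B
  let _ : CommGroup Q :=
    { (inferInstance : Group Q) with
      mul_comm := fun a b => Subtype.ext (hQ a a.2 b b.2) }
  let a : B → Q := fun b => ⟨f₂ b * (f₁ b)⁻¹, h b⟩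
  have hconj : ∀ (b : B) (x : Q), ((MulAut.conjNormal (f₁ b) x : Q) : G) = f₁ b * x * (f₁ b)⁻¹ :=
    fun b x => MulAut.conjNormal_apply _ _
  have hcoc : ∀ b b', a (b * b') = a b * MulAut.conjNormal (f₁ b) (a b') := by
    intro b b'
    apply Subtype.ext
    rw [Subgroup.coe_mul, hconj]
    show f₂ (b * b') * (f₁ (b * b'))⁻¹ = f₂ b * (f₁ b)⁻¹ * (f₁ b * (f₂ b' * (f₁ b')⁻¹) * (f₁ b)⁻¹)
    rw [map_mul, map_mul]
    group
  let s : Q := ∏ b', a b'
  have hs : ∀ b, s = a b ^ (Nat.card B) * MulAut.conjNormal (f₁ b) s := by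
    intro b
    have h1 : s = ∏ b', a (b * b') := (Fintype.prod_equiv (Equiv.mulLeft b) _ _ (fun _ => rfl)).symm
    have h2 : ∏ b', a (b * b') = a b ^ (Nat.card B) * MulAut.conjNormal (f₁ b) (∏ b', a b') := by
      simp only [hcoc]
      rw [Finset.prod_mul_distrib, Finset.prod_const, Finset.card_univ, ← Nat.card_eq_fintype_card,
        ← map_prod]
    exact h1.trans h2
  let e := powCoprime hcop.symm
  obtain ⟨q, hq⟩ := e.surjective s
  have hq' : q ^ (Nat.card B) = s := hq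
  refine ⟨q, q.2, fun b => ?_⟩
  have h2 : e q = e (a b * MulAut.conjNormal (f₁ b) q) := by
    show q ^ (Nat.card B) = (a b * MulAut.conjNormal (f₁ b) q) ^ (Nat.card B)
    rw [mul_pow, ← map_pow, hq']
    exact hs b
  have h3 : (q : G) = f₂ b * (f₁ b)⁻¹ * (f₁ b * q * (f₁ b)⁻¹) := by
    have h4 := congrArg (Subtype.val : Q → G) (e.injective h2)
    rw [Subgroup.coe_mul, hconj] at h4
    exact h4
  have h5 : (q : G) = f₂ b * q * (f₁ b)⁻¹ := h3.trans (by group)
  have h6 : f₂ b * q = q * f₁ b := by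
    rw [eq_mul_inv_iff_mul_eq] at h5
    exact h5.symm
  rw [← h6]
  group

theorem card_sup_dvd {G : Type*} [Group G] (A B : Subgroup G) [hB : B.Normal] :
    Nat.card (A ⊔ B : Subgroup G) ∣ Nat.card A * Nat.card B := by
  have h1 : B.relIndex (A ⊔ B) * Nat.card B = Nat.card (A ⊔ B : Subgroup G) := by
    rw [mul_comm]
    have := (B.subgroupOf (A ⊔ B)).card_mul_index
    rwa [Nat.card_congr (subgroupOfEquivOfLe (le_sup_right : B ≤ A ⊔ B)).toEquiv] at this
  rw [← h1]
  exact Nat.mul_dvd_mul_right (relIndex_sup_right (K := B) (H := A) ▸ relIndex_dvd_card B A) _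

/-- Frattini argument for complements of abelian normal subgroups. -/
theorem frattini {G : Type*} [Group G] [Finite G] (Q Z : Subgroup G) [hQn : Q.Normal]
    (hQ : ∀ x ∈ Q, ∀ y ∈ Q, x * y = y * x) (hcop : (Nat.card Z).Coprime (Nat.card Q)) (g : G)
    (hg : ∀ z ∈ Z, g * z * g⁻¹ ∈ Z ⊔ Q) :
    ∃ q ∈ Q, ∀ z ∈ Z, (q⁻¹ * g) * z * (q⁻¹ * g)⁻¹ ∈ Z := by
  have hZQ : Z ⊓ Q = ⊥ := (disjoint_of_coprime_natCard hcop).eq_bot
  have hinj : Function.Injective ((QuotientGroup.mk' Q).comp Z.subtype) := by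
    rw [injective_iff_map_eq_one]
    intro x hx
    have h1 : (x : G) ∈ Q := (QuotientGroup.eq_one_iff (x : G)).1 hx
    have h2 : (x : G) ∈ Z ⊓ Q := ⟨x.2, h1⟩
    rw [hZQ, mem_bot] at h2
    exact Subtype.ext h2
  let e : Z ≃* ((QuotientGroup.mk' Q).comp Z.subtype).range := MonoidHom.ofInjective hinj
  let c : Z →* G ⧸ Q := (QuotientGroup.mk' Q).comp ((MulAut.conj g).toMonoidHom.comp Z.subtype)
  have hc : ∀ z : Z, c z ∈ ((QuotientGroup.mk' Q).comp Z.subtype).range := by
    intro z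
    have h1 := hg z z.2
    rw [← SetLike.mem_coe, mul_normal] at h1
    obtain ⟨y, hy, q, hq, hyq⟩ := h1
    refine ⟨⟨y, hy⟩, ?_⟩
    show (y : G ⧸ Q) = ((g * z * g⁻¹ : G) : G ⧸ Q)
    rw [QuotientGroup.eq, ← hyq]
    simpa using hq
  let ψ : Z →* Z := e.symm.toMonoidHom.comp (c.codRestrict _ hc)
  have hψ : ∀ z : Z, QuotientGroup.mk' Q (ψ z : G) = QuotientGroup.mk' Q (g * z * g⁻¹) := by
    intro z
    have h1 : e (ψ z) = c.codRestrict _ hc z := by
      show e (e.symm _) = _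
      rw [e.apply_symm_apply]
    exact congrArg Subtype.val h1
  obtain ⟨q, hq, h⟩ := conj_hom Q hQ hcop (Z.subtype.comp ψ)
    ((MulAut.conj g).toMonoidHom.comp Z.subtype) (by
      intro b
      have h1 := hψ b
      show g * b * g⁻¹ * (ψ b : G)⁻¹ ∈ Q
      rw [← QuotientGroup.eq_one_iff]
      show QuotientGroup.mk' Q (g * b * g⁻¹ * (ψ b : G)⁻¹) = 1
      rw [map_mul, map_inv, h1, mul_inv_cancel])
  refine ⟨q, hq, fun z hz => ?_⟩
  have h1 : g * z * g⁻¹ = q * (ψ ⟨z, hz⟩ : G) * q⁻¹ := h ⟨z, hz⟩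
  have h2 : (q⁻¹ * g) * z * (q⁻¹ * g)⁻¹ = q⁻¹ * (g * z * g⁻¹) * q := by group
  rw [h2, h1]
  have h3 : q⁻¹ * (q * (ψ ⟨z, hz⟩ : G) * q⁻¹) * q = (ψ ⟨z, hz⟩ : G) := by group
  rw [h3]
  exact (ψ ⟨z, hz⟩).2

/-- If `M = H C` then `|M : C|` divides `|H|`. -/
theorem index_dvd_of_mul {M : Type*} [Group M] [Finite M] (H C : Subgroup M)
    (hHC : ∀ m : M, ∃ h ∈ H, ∃ c ∈ C, m = h * c) : C.index ∣ Nat.card H := by
  have ht : MulAction.IsPretransitive H (M ⧸ C) := by
    rw [MulAction.isPretransitive_iff_base (((1 : M) : M ⧸ C))]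
    intro x
    obtain ⟨m, rfl⟩ := QuotientGroup.mk_surjective x
    obtain ⟨h, hh, c, hc, rfl⟩ := hHC m
    refine ⟨⟨h, hh⟩, ?_⟩
    show ((h * 1 : M) : M ⧸ C) = _
    rw [QuotientGroup.eq]
    simpa using hc
  have h1 := MulAction.index_stabilizer_of_transitive H (((1 : M) : M ⧸ C))
  rw [Subgroup.index_eq_card, ← h1]
  exact Subgroup.index_dvd_card _

/-- `|K : K ∩ C|` divides `|M : C|` for a normal subgroup `K`. -/
theorem relIndex_dvd_index' {M : Type*} [Group M] [Finite M] (C K : Subgroup M) [hK : K.Normal] :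
    C.relIndex K ∣ C.index := by
  have h1 : C.relIndex (C ⊔ K) ∣ C.index := by
    rw [← relIndex_mul_index (le_sup_left : C ≤ C ⊔ K)]
    exact Dvd.intro _ rfl
  have h2 : C.relIndex (C ⊔ K) = C.relIndex K := by
    -- count
    have e1 : Nat.card C * C.relIndex (C ⊔ K) = Nat.card (C ⊔ K : Subgroup M) := by
      have := (C.subgroupOf (C ⊔ K)).card_mul_index
      rwa [Nat.card_congr (subgroupOfEquivOfLe (le_sup_left : C ≤ C ⊔ K)).toEquiv] at this
    have e2 : Nat.card K * K.relIndex (C ⊔ K) = Nat.card (C ⊔ K : Subgroup M) := by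
      have := (K.subgroupOf (C ⊔ K)).card_mul_index
      rwa [Nat.card_congr (subgroupOfEquivOfLe (le_sup_right : K ≤ C ⊔ K)).toEquiv] at this
    rw [relIndex_sup_right] at e2
    have e3 : Nat.card (C ⊓ K : Subgroup M) * K.relIndex C = Nat.card C := by
      have := (K.subgroupOf C).card_mul_index
      rw [← inf_subgroupOf_left] at this
      rwa [Nat.card_congr (subgroupOfEquivOfLe (inf_le_left : C ⊓ K ≤ C)).toEquiv,
        inf_subgroupOf_left] at this
    have e4 : Nat.card (C ⊓ K : Subgroup M) * C.relIndex K = Nat.card K := by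
      have := (C.subgroupOf K).card_mul_index
      rw [← inf_subgroupOf_right] at this
      rwa [Nat.card_congr (subgroupOfEquivOfLe (inf_le_right : C ⊓ K ≤ K)).toEquiv,
        inf_subgroupOf_right] at this
    have hC : 0 < Nat.card C := Nat.card_pos
    have h5 : Nat.card C * C.relIndex (C ⊔ K) = Nat.card C * C.relIndex K := by
      rw [e1, ← e2, ← e4, ← e3]
      ring
    exact Nat.eq_of_mul_eq_mul_left hC h5
  rw [← h2]
  exact h1

/-- The fusion lemma. -/
theorem fuse {M : Type*} [Group M] [Finite M] (H K C A : Subgroup M) [K.Normal] [A.Normal]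
    (hHC : ∀ m : M, ∃ h ∈ H, ∃ c ∈ C, m = h * c)
    (hcop : (A.relIndex K).Coprime (Nat.card H)) : ∀ k ∈ K, ∃ a ∈ A, ∃ c ∈ C ⊓ K, k = a * c := by
  have h1 : (A ⊔ (C ⊓ K)).relIndex K = 1 := by
    apply Nat.eq_one_of_dvd_coprimes hcop
    · exact relIndex_dvd_of_le_left K le_sup_left
    · refine (relIndex_dvd_of_le_left K (le_sup_right : C ⊓ K ≤ A ⊔ (C ⊓ K))).trans ?_
      rw [inf_relIndex_right]
      exact (relIndex_dvd_index' C K).trans (index_dvd_of_mul H C hHC)
  rw [relIndex_eq_one] at h1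
  intro k hk
  have h2 := h1 hk
  rw [← SetLike.mem_coe, normal_mul] at h2
  obtain ⟨a, ha, c, hc, rfl⟩ := h2
  exact ⟨a, ha, c, hc, rfl⟩

/-- The conjugates of a proper subgroup do not cover the group. -/
theorem eq_top_of_cover {Z : Type*} [Group Z] [Finite Z] (D : Subgroup Z)
    (h : ∀ z : Z, ∃ a : Z, a⁻¹ * z * a ∈ D) : D = ⊤ := by
  by_contra hD
  have h2 : 2 ≤ Nat.card (Z ⧸ D) := by
    rw [← Subgroup.index_eq_card]
    have h3 : D.index ≠ 1 := fun h0 => hD (Subgroup.index_eq_one.1 h0)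
    have h4 : D.index ≠ 0 := Subgroup.FiniteIndex.index_ne_zero
    omega
  obtain ⟨z, hz⟩ := H395.Jordan.exists_derangement (G := Z) (X := Z ⧸ D) inferInstance h2
  obtain ⟨a, ha⟩ := h z
  apply hz (a : Z ⧸ D)
  show ((z * a : Z) : Z ⧸ D) = (a : Z ⧸ D)
  rw [eq_comm, QuotientGroup.eq, ← mul_assoc]
  exact ha

/-- An `ℓ`-group acting on an `ℓ'`-group `Z` and fixing all its classes centralizes it. -/
theorem centralize {G : Type*} [Group G] [Finite G] (Z R : Subgroup G) (ℓ : ℕ) [hℓ : Fact ℓ.Prime]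
    (hR : IsPGroup ℓ R) (hZℓ : ¬ ℓ ∣ Nat.card Z) (hn : ∀ r ∈ R, ∀ z ∈ Z, r * z * r⁻¹ ∈ Z)
    (h : ∀ z ∈ Z, ∀ r ∈ R, ∃ a ∈ Z, ∃ c : G, c * z = z * c ∧ r = a * c) :
    ∀ r ∈ R, ∀ z ∈ Z, r * z = z * r := by
  classical
  -- the group `P = Z R`
  have hRn : R ≤ normalizer (Z : Set G) := by
    intro r hr
    rw [mem_normalizer_iff]
    intro z
    refine ⟨fun hz => hn r hr z hz, fun hz => ?_⟩
    have h1 := hn r⁻¹ (inv_mem hr) _ hz
    have h2 : r⁻¹ * (r * z * r⁻¹) * r⁻¹⁻¹ = z := by group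
    rwa [h2] at h1
  have hmem : ∀ x : G, x ∈ Z ⊔ R ↔ ∃ z ∈ Z, ∃ r ∈ R, z * r = x := by
    intro x
    rw [← SetLike.mem_coe, coe_mul_of_right_le_normalizer_left Z R hRn]
    exact Iff.rfl
  -- the centralizer of `R` in `Z`
  let D : Subgroup Z := (centralizer (R : Set G)).subgroupOf Z
  have hD : D = ⊤ := by
    apply eq_top_of_cover
    intro z
    -- `P = Z C_P(z)`
    let P : Subgroup G := Z ⊔ R
    let C : Subgroup P := (centralizer {(z : G)}).subgroupOf P
    have hC : C.index ∣ Nat.card (Z.subgroupOf P) := by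
      apply index_dvd_of_mul
      rintro ⟨m, hm⟩
      obtain ⟨y, hy, r, hr, rfl⟩ := (hmem m).1 hm
      obtain ⟨a, ha, c, hc, rfl⟩ := h z z.2 r hr
      have hcP : c ∈ P := by
        have h1 : a⁻¹ * (a * c) ∈ P := mul_mem (inv_mem (mem_sup_left ha)) (mem_sup_right hr)
        simpa using h1
      refine ⟨⟨y * a, mem_sup_left (mul_mem hy ha)⟩, mul_mem hy ha, ⟨c, hcP⟩, ?_, ?_⟩
      · show c ∈ centralizer {(z : G)}
        rw [mem_centralizer_singleton_iff]
        exact hc
      · apply Subtype.ext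
        show y * (a * c) = y * a * c
        group
    have hCℓ : ¬ ℓ ∣ C.index := by
      intro h0
      apply hZℓ
      have h1 := h0.trans hC
      rwa [Nat.card_congr (subgroupOfEquivOfLe (le_sup_left : Z ≤ P)).toEquiv] at h1
    -- a Sylow subgroup of `C` is one of `P`
    obtain ⟨S⟩ : Nonempty (Sylow ℓ C) := inferInstance
    have hS1 : IsPGroup ℓ ((S : Subgroup C).map C.subtype) := S.isPGroup'.map _
    have hS2 : ¬ ℓ ∣ (((S : Subgroup C).map C.subtype).index :) := by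
      have h1 : ((S : Subgroup C).map C.subtype).index = (S : Subgroup C).index * C.index := by
        rw [Subgroup.index_map, C.ker_subtype, sup_bot_eq,
          C.range_subtype]
      rw [h1, hℓ.out.dvd_mul]
      rintro (h0 | h0)
      · exact S.not_dvd_index h0
      · exact hCℓ h0
    have hR1 : IsPGroup ℓ (R.subgroupOf P) := hR.comap_subtype
    have hR2 : ¬ ℓ ∣ (R.subgroupOf P).index := by
      intro h0
      apply hZℓ
      refine h0.trans ?_
      have h1 : (R.subgroupOf P).index ∣ Nat.card (Z.subgroupOf P) := by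
        apply index_dvd_of_mul
        rintro ⟨m, hm⟩
        obtain ⟨y, hy, r, hr, rfl⟩ := (hmem m).1 hm
        exact ⟨⟨y, mem_sup_left hy⟩, hy, ⟨r, mem_sup_right hr⟩, hr, rfl⟩
      rwa [Nat.card_congr (subgroupOfEquivOfLe (le_sup_left : Z ≤ P)).toEquiv] at h1
    obtain ⟨g, hg⟩ := MulAction.exists_smul_eq P (hS1.toSylow hS2) (hR1.toSylow hR2)
    have hg' : ∀ r : P, r ∈ R.subgroupOf P → g⁻¹ * r * g ∈ C := by
      intro r hr
      have h1 : r ∈ ((hR1.toSylow hR2 : Sylow ℓ P) : Subgroup P) := hr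
      rw [← hg] at h1
      have h2 : g⁻¹ * r * g ∈ ((hS1.toSylow hS2 : Sylow ℓ P) : Subgroup P) := by
        rw [Sylow.coe_subgroup_smul, Subgroup.mem_pointwise_smul_iff_inv_smul_mem] at h1
        simpa only [MulAut.smul_def, MulAut.conj_symm_apply, _root_.IsPGroup.toSylow_coe, _root_.Subgroup.mem_map, _root_.Subgroup.subtype_apply, _root_.Subtype.exists, _root_.exists_and_right, _root_.exists_eq_right, _root_.MulAut.inv_apply] using h1
      exact ((map_subtype_le (S : Subgroup C)) h2 :)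
    obtain ⟨y, hy, r', hr', hyr⟩ := (hmem (g⁻¹ : P)).1 (g⁻¹ : P).2
    refine ⟨⟨y, hy⟩, ?_⟩
    show ((y : G)⁻¹ * z * y) ∈ centralizer (R : Set G)
    rw [mem_centralizer_iff]
    intro r hr
    have hr1 : r'⁻¹ * r * r' ∈ R := mul_mem (mul_mem (inv_mem hr') hr) hr'
    have h3 := hg' ⟨r'⁻¹ * r * r', mem_sup_right hr1⟩ hr1
    have h4 : ((g⁻¹ * ⟨r'⁻¹ * r * r', mem_sup_right hr1⟩ * g : P) : G) = y * r * y⁻¹ := by
      have h5 : (g : G) = (y * r')⁻¹ := by
        rw [hyr]
        simp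
      show ((g⁻¹ : P) : G) * (r'⁻¹ * r * r') * (g : G) = _
      rw [← hyr, h5]
      group
    have h6 : ((g⁻¹ * ⟨r'⁻¹ * r * r', mem_sup_right hr1⟩ * g : P) : G) ∈ centralizer {(z : G)} := h3
    rw [h4, mem_centralizer_singleton_iff] at h6
    have h7 : r * (y⁻¹ * z * y) = y⁻¹ * (y * r * y⁻¹ * z) * y := by group
    rw [h7, h6]
    group
  intro r hr z hz
  have h1 : (⟨z, hz⟩ : Z) ∈ D := by rw [hD]; exact mem_top _
  have h2 : z ∈ centralizer (R : Set G) := h1
  rw [mem_centralizer_iff] at h2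
  exact h2 r hr

end Cfsg.Agent.H715

private theorem dce_45c0018932fb : _root_.True := by
  try have : _root_.True := by simp only [_root_.IsPGroup.toSylow.congr_simp]
  exact _root_.True.intro
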